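import Groth.Agent.FlatEtNhd.Fibre
import Groth.Agent.DevProj.Main
import Groth.Agent.FlatModel.Open

/-! Etale neighbourhoods on which a flat finitely presented module becomes projective over the base. -/

set_option autoImplicit false
set_option backward.isDefEq.respectTransparency false
set_option backward.isDefEq.respectTransparency.types false
attribute [-instance] CategoryTheory.catToReflQuiver

universe u

open TensorProduct IsLocalRing

namespace Groth.Agent.FlatEtProj

/-- The base changes of `N` to `S'` are projective over `R'`. -/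
def PGood (R' : Type u) [CommRing R'] (S : Type u) [CommRing S] (S' : Type u)
    [CommRing S'] [Algebra R' S'] [Algebra S S'] (N : Type u) [AddCommGroup N] [Module S N] : Prop :=
  ∀ (M : Type u) [AddCommGroup M] [Module S' M] [Module S M] [IsScalarTower S S' M] [Module R' M]
    [IsScalarTower R' S' M] (f : N →ₗ[S] M), IsBaseChange S' f → Module.Projective R' M

theorem pgood_of_subsingleton {R' S S' : Type u} [CommRing R'] [CommRing S] [CommRing S'] [Algebra R' S']
    [Algebra S S'] {N : Type u} [AddCommGroup N] [Module S N] (hS : Subsingleton S') : PGood R' S S' N := by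
  intro M _ _ _ _ _ _ f hf
  haveI : Subsingleton M := Module.subsingleton S' M
  infer_instance

theorem PGood.baseChange {R' S S' : Type u} [CommRing R'] [CommRing S] [CommRing S'] [Algebra R' S'] [Algebra S S']
    {N : Type u} [AddCommGroup N] [Module S N] (h : PGood R' S S' N) (R'' : Type u) [CommRing R''] [Algebra R' R'']
    (S'' : Type u) [CommRing S''] [Algebra R'' S''] [Algebra S' S''] [Algebra R' S''] [IsScalarTower R' R'' S'']
    [IsScalarTower R' S' S''] [Algebra.IsPushout R' R'' S' S''] [Algebra S S''] [IsScalarTower S S' S''] :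
    PGood R'' S S'' N := by
  intro M _ _ _ _ _ _ f hf
  let M₀ := S' ⊗[S] N
  let g : N →ₗ[S] M₀ := TensorProduct.mk S S' N 1
  have hg : IsBaseChange S' g := TensorProduct.isBaseChange S N S'
  haveI : SMulCommClass R' S S' := ⟨fun a s c => by simp only [Algebra.smul_def]; ring⟩
  haveI : IsScalarTower R' S' M₀ := inferInstance
  haveI := h M₀ g hg
  haveI : Algebra.IsPushout R' S' R'' S'' := Algebra.IsPushout.symm inferInstance
  letI : Module S' M := Module.compHom M (algebraMap S' S'')
  haveI : IsScalarTower S' S'' M := IsScalarTower.of_algebraMap_smul fun _ _ => rfl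
  haveI : IsScalarTower S S' M := IsScalarTower.to₁₂₄ S S' S'' M
  let a : M₀ →ₗ[S'] M := hg.lift f
  have ha : IsBaseChange S'' a := IsBaseChange.of_comp hg (by
    rw [show ((a.restrictScalars S) ∘ₗ g) = f from LinearMap.ext fun n => hg.lift_eq f n]; exact hf)
  exact Module.Projective.of_equiv
    ((Algebra.IsPushout.cancelBaseChange R' R'' S' S'' M₀).symm.trans (ha.equiv.restrictScalars R''))

theorem PGood.prod {R' S S₁ S₂ : Type u} [CommRing R'] [CommRing S] [CommRing S₁] [CommRing S₂] [Algebra R' S₁]
    [Algebra R' S₂] [Algebra S S₁] [Algebra S S₂] {N : Type u} [AddCommGroup N] [Module S N]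
    (h₁ : PGood R' S S₁ N) (h₂ : PGood R' S S₂ N) : PGood R' S (S₁ × S₂) N := by
  intro M _ _ _ _ _ _ f hf
  let P := S₁ × S₂
  have part : ∀ (T : Type u) [CommRing T] [Algebra R' T] [Algebra S T] [Algebra P T] [IsScalarTower R' P T]
      [IsScalarTower S P T], PGood R' S T N → Module.Projective R' (T ⊗[P] M) := by
    intro T _ _ _ _ _ _ hT
    exact hT (T ⊗[P] M) (((TensorProduct.mk P T M 1).restrictScalars S).comp f)
      (hf.comp (TensorProduct.isBaseChange P M T))
  letI : Algebra P S₁ := (RingHom.fst S₁ S₂).toAlgebra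
  letI : Algebra P S₂ := (RingHom.snd S₁ S₂).toAlgebra
  haveI : IsScalarTower R' P S₁ := IsScalarTower.of_algebraMap_eq fun _ => rfl
  haveI : IsScalarTower R' P S₂ := IsScalarTower.of_algebraMap_eq fun _ => rfl
  haveI : IsScalarTower S P S₁ := IsScalarTower.of_algebraMap_eq fun _ => rfl
  haveI : IsScalarTower S P S₂ := IsScalarTower.of_algebraMap_eq fun _ => rfl
  let e₀ : P ≃ₗ[P] (S₁ × S₂) := { AddEquiv.refl P with map_smul' := fun _ _ => rfl }
  haveI := part S₁ h₁
  haveI := part S₂ h₂
  let eM : M ≃ₗ[P] (S₁ ⊗[P] M) × (S₂ ⊗[P] M) :=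
    (TensorProduct.lid P M).symm.trans ((TensorProduct.congr e₀ (LinearEquiv.refl P M)).trans
      (TensorProduct.prodLeft P P _ _ M))
  exact Module.Projective.of_equiv (eM.restrictScalars R').symm

set_option maxHeartbeats 800000 in
/-- A finitely presented module flat at a point is projective on an elementary etale neighbourhood. -/
theorem exists_pgood {R S : Type u} [CommRing R] [CommRing S] [Algebra R S] [Algebra.FinitePresentation R S]
    (N : Type u) [AddCommGroup N] [Module S N] [Module R N] [IsScalarTower R S N] [Module.FinitePresentation S N]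
    (p : Ideal R) [p.IsPrime] (q : Ideal S) [q.IsPrime] [q.LiesOver p] (hflat : FlatCA.FlatAt R q N) :
    ∃ (R' S' : Type u) (_ : CommRing R') (_ : CommRing S') (_ : Algebra R R') (_ : Algebra S S') (_ : Algebra R' S')
      (_ : Algebra R S') (_ : IsScalarTower R R' S') (_ : IsScalarTower R S S')
      (p' : Ideal R') (q' : Ideal S') (_ : p'.IsPrime) (_ : q'.IsPrime),
      FlatCA.IsEtaleNhd R R' p p' ∧ FlatCA.IsEtaleNhd S S' q q' ∧ q'.LiesOver p' ∧ PGood R' S S' N := by
  by_cases hann : Module.annihilator S N ≤ q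
  swap
  · obtain ⟨d, hd, hdq⟩ := SetLike.not_le_iff_exists.1 hann
    let S' := Localization.Away d
    obtain ⟨hq0, hqq0⟩ := FlatDevLoc.isPrime_map_away (T' := S') d q hdq
    let q' : Ideal S' := q.map (algebraMap S S')
    haveI : q'.IsPrime := hq0
    haveI : q'.LiesOver q := hqq0
    refine ⟨R, S', inferInstance, inferInstance, inferInstance, inferInstance, inferInstance, inferInstance,
      inferInstance, inferInstance, p, q', inferInstance, inferInstance, FlatEtNhd.isEtaleNhd_self p,
      DevExist.isEtaleNhd_away S' d q q', Ideal.LiesOver.trans q' q p, fun M _ _ _ _ _ _ f hf => ?_⟩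
    haveI : Subsingleton M := FlatEtNhd.subsingleton_of_isBaseChange hf d
      (IsLocalization.Away.algebraMap_isUnit d) (Module.mem_annihilator.1 hd)
    infer_instance
  obtain ⟨g, hg, hgflat⟩ := FlatModel.exists_flat_nhd (R := R) N q hflat
  let S₁ := Localization.Away g
  let N₁ := S₁ ⊗[S] N
  let f₁ : N →ₗ[S] N₁ := TensorProduct.mk S S₁ N 1
  have hf₁ : IsBaseChange S₁ f₁ := TensorProduct.isBaseChange S N S₁
  haveI : Module.Flat R N₁ := by
    haveI := hgflat _ (Submonoid.mem_powers g)
    haveI : IsLocalizedModule (Submonoid.powers g) f₁ := (isLocalizedModule_iff_isBaseChange (Submonoid.powers g) S₁ _).2 hf₁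
    exact Module.Flat.of_linearEquiv ((IsLocalizedModule.linearEquiv (Submonoid.powers g)
      f₁ (LocalizedModule.mkLinearMap (Submonoid.powers g) N)).restrictScalars R)
  obtain ⟨hq0, hqq0⟩ := FlatDevLoc.isPrime_map_away (T' := S₁) g q hg
  let q₁ : Ideal S₁ := q.map (algebraMap S S₁)
  haveI : q₁.IsPrime := hq0
  haveI hq₁ : q₁.LiesOver q := hqq0
  haveI : q₁.LiesOver p := Ideal.LiesOver.trans q₁ q p
  have hann₁ : Module.annihilator S₁ N₁ ≤ q₁ := by
    haveI : IsLocalizedModule (Submonoid.powers g) f₁ := (isLocalizedModule_iff_isBaseChange (Submonoid.powers g) S₁ _).2 hf₁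
    intro a ha
    obtain ⟨b, ⟨_, k, rfl⟩, rfl⟩ := IsLocalization.exists_mk'_eq (Submonoid.powers g) a
    refine (IsLocalization.mk'_mem_iff).2 (Ideal.mem_map_of_mem _ ?_)
    have hb : algebraMap S S₁ b ∈ Module.annihilator S₁ N₁ := IsLocalization.mk'_mem_iff.1 ha
    obtain ⟨s, hs⟩ := Module.Finite.fg_top (R := S) (M := N)
    have hk : ∀ n : N, ∃ j : ℕ, g ^ j • (b • n) = 0 := fun n => by
      have h0 : f₁ (b • n) = 0 := by
        rw [map_smul, ← algebraMap_smul S₁ b (f₁ n)]
        exact Module.mem_annihilator.1 hb _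
      obtain ⟨⟨_, j, rfl⟩, hj⟩ := (IsLocalizedModule.eq_zero_iff (Submonoid.powers g) f₁).1 h0
      exact ⟨j, hj⟩
    choose j hj using hk
    have hmem : g ^ (∑ n ∈ s, j n) * b ∈ Module.annihilator S N := Module.mem_annihilator.2 fun m => by
      have hm : m ∈ Submodule.span S (s : Set N) := hs ▸ Submodule.mem_top
      induction hm using Submodule.span_induction with
      | mem n hn =>
        obtain ⟨l, hl⟩ := Nat.exists_eq_add_of_le (Finset.single_le_sum (fun n _ => Nat.zero_le (j n)) hn)
        rw [mul_smul, hl, add_comm, pow_add, mul_smul, hj, smul_zero]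
      | zero => rw [smul_zero]
      | add x y _ _ hx hy => rw [smul_add, hx, hy, add_zero]
      | smul c x _ hx => rw [smul_comm, hx, smul_zero]
    exact ((Ideal.IsPrime.mem_or_mem ‹q.IsPrime› (hann hmem)).resolve_left fun h =>
      hg (Ideal.IsPrime.mem_of_pow_mem ‹q.IsPrime› _ h))
  let x := PrimeSpectrum.primesOverOrderIsoFiber R S₁ p ⟨q₁, inferInstance, inferInstance⟩
  obtain ⟨R', S', _, _, _, _, _, _, _, _, p', q', _, _, hR, hS, hover, hdev⟩ :=
    DevExist.exists_hasDevNhd N₁ p q₁ ⟨x, (FlatDevBC.mem_support_fiber_iff p x).2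
      (by rw [OrderIso.symm_apply_apply]; exact hann₁), FlatDevLoc.primesOver_fiberIdeal p q₁ inferInstance⟩
  have hR0 := hR
  obtain ⟨heR, hp', -⟩ := hR0
  have hS0 := hS
  obtain ⟨heS, hq', -⟩ := hS0
  haveI := heR; haveI := heS; haveI := hp'; haveI := hq'; haveI := hover
  let N' := S' ⊗[S₁] N₁
  let g' : N₁ →ₗ[S₁] N' := TensorProduct.mk S₁ S' N₁ 1
  have hg' : IsBaseChange S' g' := TensorProduct.isBaseChange S₁ N₁ S'
  haveI : IsScalarTower R R' N' := IsScalarTower.to₁₂₄ R R' S' N'
  haveI : Module.Flat R N' := DevEtale.flat_of_isBaseChange (A := R) g' hg'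
  haveI : Module.Flat R' N' := (DevEtale.flat_iff_of_etale_base R R' N').1 inferInstance
  haveI : Algebra.FinitePresentation S S₁ := IsLocalization.Away.finitePresentation g
  haveI : Algebra.FinitePresentation R S₁ := Algebra.FinitePresentation.trans R S S₁
  haveI : Algebra.FinitePresentation R S' := Algebra.FinitePresentation.trans R S₁ S'
  haveI : Algebra.FinitePresentation R' S' := Algebra.FinitePresentation.of_restrict_scalars_finitePresentation R R' S'
  haveI : Module.FinitePresentation S₁ N₁ := inferInstance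
  haveI : Module.FinitePresentation S' N' := inferInstance
  obtain ⟨D, -⟩ := (hdev N' g' hg').hasCompleteDevissageAt
  obtain ⟨f, hf, hproj, -⟩ := DevProj.exists_proj D
  let R'' := Localization.Away f
  obtain ⟨hp0, hp1⟩ := FlatDevLoc.isPrime_map_away (T' := R'') f p' hf
  let p'' : Ideal R'' := p'.map (algebraMap R' R'')
  haveI : p''.IsPrime := hp0
  haveI hp'' : p''.LiesOver p' := hp1
  have hR'' : FlatCA.IsEtaleNhd R' R'' p' p'' := DevExist.isEtaleNhd_away R'' f p' p''
  let S'' := R'' ⊗[R'] S'
  letI : Algebra S' S'' := Algebra.TensorProduct.rightAlgebra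
  haveI : IsScalarTower R' S' S'' := Algebra.TensorProduct.right_isScalarTower
  haveI : Algebra.IsPushout R' R'' S' S'' := TensorProduct.isPushout (R := R') (S := R'') (T := S')
  haveI : Algebra.Etale R' R'' := hR''.1
  haveI : Algebra.Etale S' S'' := DevExist.etale_rightAlgebra R' R'' S'
  letI : Algebra S₁ S'' := ((algebraMap S' S'').comp (algebraMap S₁ S')).toAlgebra
  haveI : IsScalarTower S₁ S' S'' := IsScalarTower.of_algebraMap_eq' rfl
  letI : Algebra S S'' := ((algebraMap S₁ S'').comp (algebraMap S S₁)).toAlgebra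
  haveI : IsScalarTower S S₁ S'' := IsScalarTower.of_algebraMap_eq' rfl
  haveI : IsScalarTower R S S'' := IsScalarTower.of_algebraMap_eq fun r => by
    show algebraMap R R'' r ⊗ₜ[R'] (1 : S') = algebraMap S₁ S'' (algebraMap S S₁ (algebraMap R S r))
    rw [← IsScalarTower.algebraMap_apply R S S₁, IsScalarTower.algebraMap_apply S₁ S' S'',
      ← IsScalarTower.algebraMap_apply R S₁ S', IsScalarTower.algebraMap_apply R R' S',
      ← IsScalarTower.algebraMap_apply R' S' S'', IsScalarTower.algebraMap_apply R R' R'']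
    rfl
  obtain ⟨q'', hq''0, hq''q, hq''p⟩ := FlatDevBC.exists_prime_over (R := R') (R' := R'') (T := S') (T' := S'')
    p' p'' hR''.2.choose_spec q'
  haveI := hq''0; haveI := hq''q; haveI := hq''p
  have h' : FlatCA.IsEtaleNhd S' S'' q' q'' := ⟨inferInstance, hq''q, (DevExist.bijective_mapₐ_iff q' q'').2
    (FlatDevBC.residueField_bijective p' p'' hR''.2.choose_spec q' q'')⟩
  have h1 : FlatCA.IsEtaleNhd S S₁ q q₁ := DevExist.isEtaleNhd_away S₁ g q q₁
  refine ⟨R'', S'', inferInstance, inferInstance, inferInstance, inferInstance, inferInstance, inferInstance,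
    inferInstance, inferInstance, p'', q'', inferInstance, inferInstance, DevExist.isEtaleNhd_trans (p₁ := p') hR hR'',
    DevExist.isEtaleNhd_trans (p₁ := q₁) h1 (DevExist.isEtaleNhd_trans (p₁ := q') hS h'), hq''p, ?_⟩
  intro M _ _ _ _ _ _ fM hfM
  letI : Module S₁ M := Module.compHom M (algebraMap S₁ S'')
  haveI : IsScalarTower S₁ S'' M := IsScalarTower.of_algebraMap_smul fun _ _ => rfl
  haveI : IsScalarTower S S₁ M := IsScalarTower.to₁₂₄ S S₁ S'' M
  letI : Module S' M := Module.compHom M (algebraMap S' S'')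
  haveI : IsScalarTower S' S'' M := IsScalarTower.of_algebraMap_smul fun _ _ => rfl
  haveI : IsScalarTower S₁ S' M := IsScalarTower.to₁₂₄ S₁ S' S'' M
  let a₁ : N₁ →ₗ[S₁] M := hf₁.lift fM
  have ha₁ : IsBaseChange S'' a₁ := IsBaseChange.of_comp hf₁ (by
    rw [show ((a₁.restrictScalars S) ∘ₗ f₁) = fM from LinearMap.ext fun n => hf₁.lift_eq fM n]; exact hfM)
  let a : N' →ₗ[S'] M := hg'.lift a₁
  have ha : IsBaseChange S'' a := IsBaseChange.of_comp hg' (by
    rw [show ((a.restrictScalars S₁) ∘ₗ g') = a₁ from LinearMap.ext fun n => hg'.lift_eq a₁ n]; exact ha₁)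
  haveI := hproj
  haveI : Algebra.IsPushout R' S' R'' S'' := Algebra.IsPushout.symm inferInstance
  exact Module.Projective.of_equiv
    ((Algebra.IsPushout.cancelBaseChange R' R'' S' S'' N').symm.trans (ha.equiv.restrictScalars R''))

end Groth.Agent.FlatEtProj
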