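import Groth.Agent.FlatEtProj.Fibre
import Groth.Agent.RegImmLib.FlatLfp
import Groth.Agent.DevExist.Scheme

/-! Projective neighbourhoods for morphisms of schemes flat at a point. -/

set_option autoImplicit false
set_option backward.isDefEq.respectTransparency false
set_option backward.isDefEq.respectTransparency.types false
attribute [-instance] CategoryTheory.catToReflQuiver

universe u

open CategoryTheory CategoryTheory.Limits AlgebraicGeometry TensorProduct

namespace Groth.Agent.FlatEtProj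

theorem projective_appTop {R' S' : Type u} [CommRing R'] [CommRing S'] [Algebra R' S'] [Module.Projective R' S'] :
    @Module.Projective Γ(Spec (CommRingCat.of R'), ⊤) _ Γ(Spec (CommRingCat.of S'), ⊤) _
      (Spec.map (CommRingCat.ofHom (algebraMap R' S'))).appTop.hom.toAlgebra.toModule := by
  let φ := CommRingCat.ofHom (algebraMap R' S')
  letI : Algebra Γ(Spec (CommRingCat.of R'), ⊤) Γ(Spec (CommRingCat.of S'), ⊤) := (Spec.map φ).appTop.hom.toAlgebra
  let e : R' ≃+* Γ(Spec (CommRingCat.of R'), ⊤) := (Scheme.ΓSpecIso (CommRingCat.of R')).commRingCatIsoToRingEquiv.symm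
  let e' : S' ≃+* Γ(Spec (CommRingCat.of S'), ⊤) := (Scheme.ΓSpecIso (CommRingCat.of S')).commRingCatIsoToRingEquiv.symm
  haveI := RingHomInvPair.of_ringEquiv e
  haveI := RingHomInvPair.of_ringEquiv e.symm
  have hcomm : ∀ r : R', e' (algebraMap R' S' r) = (Spec.map φ).appTop (e r) := fun r =>
    RingHom.congr_fun (congrArg CommRingCat.Hom.hom (Scheme.ΓSpecIso_inv_naturality φ)) r
  let l : S' ≃ₛₗ[RingHomClass.toRingHom e] Γ(Spec (CommRingCat.of S'), ⊤) :=
    { e'.toAddEquiv with
      map_smul' := fun r x => by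
        show e' (r • x) = (Spec.map φ).appTop (e r) * e' x
        rw [Algebra.smul_def, map_mul, hcomm] }
  exact Module.Projective.of_equiv l

set_option maxHeartbeats 800000 in
theorem exists_projective_nhd {X S : Scheme.{u}} (f : X ⟶ S) [LocallyOfFinitePresentation f] (x : X)
    (hx : (f.stalkMap x).hom.Flat) :
    ∃ (X' S' : Scheme.{u}) (g : X' ⟶ X) (e : S' ⟶ S) (f' : X' ⟶ S') (x' : X'),
      IsAffine X' ∧ IsAffine S' ∧ Hens2.IsEtaleNbhd g x' x ∧ Hens2.IsEtaleNbhd e (f' x') (f x) ∧ g ≫ f = f' ≫ e ∧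
      @Module.Projective Γ(S', ⊤) _ Γ(X', ⊤) _ (f'.appTop).hom.toAlgebra.toModule := by
  obtain ⟨U, hU, hxU, -⟩ := exists_isAffineOpen_mem_and_subset (x := f x) (U := (⊤ : S.Opens)) trivial
  obtain ⟨V, hV, hxV, hUV'⟩ := exists_isAffineOpen_mem_and_subset (x := x) (U := f ⁻¹ᵁ U) hxU
  have hUV : V ≤ f ⁻¹ᵁ U := hUV'
  let A := Γ(S, U)
  let B := Γ(X, V)
  letI : Algebra A B := (f.appLE U V hUV).hom.toAlgebra
  haveI : Algebra.FinitePresentation A B := f.finitePresentation_appLE hU hV hUV
  let φ : Spec (CommRingCat.of B) ⟶ Spec (CommRingCat.of A) := Spec.map (CommRingCat.ofHom (algebraMap A B))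
  have hcomm : φ ≫ hU.fromSpec = hV.fromSpec ≫ f := hU.SpecMap_appLE_fromSpec f hV hUV
  let qx : PrimeSpectrum B := hV.primeIdealOf ⟨x, hxV⟩
  let px : PrimeSpectrum A := φ qx
  have hqx : hV.fromSpec qx = x := hV.fromSpec_primeIdealOf _
  have hpx : hU.fromSpec px = f x := by
    show hU.fromSpec (φ qx) = f x
    refine ((Scheme.Hom.comp_apply φ hU.fromSpec qx).symm.trans ?_)
    rw [hcomm]
    exact (Scheme.Hom.comp_apply _ _ _).trans (congrArg f hqx)
  haveI : qx.asIdeal.LiesOver px.asIdeal := ⟨rfl⟩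
  letI : Module A B := Algebra.toModule
  haveI : Module.FinitePresentation B B := inferInstance
  have hflat : FlatCA.FlatAt A qx.asIdeal B :=
    (RegImmLib.flat_stalkMap_iff_localized f hU hV hUV x hxV).1 hx
  obtain ⟨R', S', _, _, _, _, _, _, _, _, p', q', _, _, hR, hS, hover, hG⟩ :=
    exists_pgood B px.asIdeal qx.asIdeal hflat
  haveI : Module.Projective R' S' := hG S' (Algebra.linearMap B S') (IsBaseChange.linearMap B S')
  have hpt : Spec.map (CommRingCat.ofHom (algebraMap R' S')) (⟨q', inferInstance⟩ : PrimeSpectrum S') =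
      (⟨p', inferInstance⟩ : PrimeSpectrum R') := PrimeSpectrum.ext hover.over.symm
  refine ⟨Spec (CommRingCat.of S'), Spec (CommRingCat.of R'),
    Spec.map (CommRingCat.ofHom (algebraMap B S')) ≫ hV.fromSpec,
    Spec.map (CommRingCat.ofHom (algebraMap A R')) ≫ hU.fromSpec,
    Spec.map (CommRingCat.ofHom (algebraMap R' S')), (⟨q', inferInstance⟩ : PrimeSpectrum S'),
    inferInstance, inferInstance, ?_, ?_, ?_, projective_appTop⟩
  · rw [← hqx]; exact DevExist.isEtaleNbhd_of_ring qx.asIdeal q' hS hV.fromSpec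
  · rw [hpt, ← hpx]; exact DevExist.isEtaleNbhd_of_ring px.asIdeal p' hR hU.fromSpec
  · rw [Category.assoc, ← hcomm, ← Category.assoc, ← Category.assoc]
    congr 1
    rw [← Spec.map_comp, ← Spec.map_comp, ← CommRingCat.ofHom_comp, ← CommRingCat.ofHom_comp,
      ← IsScalarTower.algebraMap_eq, ← IsScalarTower.algebraMap_eq]

end Groth.Agent.FlatEtProj
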